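import Cfsg.Agent.Lib.Leech.OctadCent.Conway
import Cfsg.Agent.Lib.Leech.Simple

/-!
# Subgroups of the first Conway group used for its uniqueness

`mono1` is the stabiliser `2^11 : M₂₄` of the standard cross, `sign1` its normal subgroup of sign changes.
-/

set_option autoImplicit false

namespace Cfsg.Agent.ConwayUnique

open Cfsg Cfsg.Agent.Leech

/-- The image in `Co1`. -/
noncomputable def mk1 : Co0 →* Spor.Co1 := QuotientGroup.mk' (Subgroup.center Co0)

/-- `2^11 : M₂₄`. -/
noncomputable def mono1 : Subgroup Spor.Co1 := monGrp.map mk1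

/-- `2^11`. -/
noncomputable def sign1 : Subgroup Spor.Co1 := signGrp.map mk1

theorem sign1_le : sign1 ≤ mono1 := Subgroup.map_mono signGrp_le

end Cfsg.Agent.ConwayUnique
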